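import Cfsg.Prelude.Def_ChevG2
import Cfsg.Agent.Lib.SporRecognition.HNRep.Packed

/-! Matrices over `ZMod 5` indexed by the basis of the adjoint G2 module, coded by natural numbers. -/

set_option autoImplicit false

namespace CfsgLib.FusionExamples.LySub

open Cfsg.Lie

instance : Fact (Nat.Prime 5) := ⟨by norm_num⟩

/-- The index type. -/
abbrev II : Type := chevG2.Idx

/-- Coordinate number of an index. -/
def cidx : II → ℕ
  | Sum.inl i => i.val
  | Sum.inr u => 2 + u.val

open CfsgLib.SporRecognition.HNRep (pk pk_congr pk_eq_sum pk_digit pk_self land_mask natRec_sum rawMul_flat)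

/-- An entry of a code: sixteen bits for each. -/
def ent (A i j : ℕ) : ℕ := A / 2 ^ (16 * (14 * i + j)) % 2 ^ 16

/-- The coded matrix. -/
def mat (A : ℕ) : Matrix II II (ZMod 5) := Matrix.of fun r c => (ent A (cidx r) (cidx c) : ZMod 5)

/-- Four bits in every place. -/
def mask4 : ℕ := 0xf000f000f000f000f000f000f000f000f000f000f000f000f000f000f000f000f000f000f000f000f000f000f000f000f000f000f000f000f000f000f000f000f000f000f000f000f000f000f000f000f000f000f000f000f000f000f000f000f000f000f000f000f000f000f000f000f000f000f000f000f000f000f000f000f000f000f000f000f000f000f000f000f000f000f000f000f000f000f000f000f000f000f000f000f000f000f000f000f000f000f000f000f000f000f000f000f000f000f000f000f000f000f000f000f000f000f000f000f000f000f000f000f000f000f000f000f000f000f000f000f000f000f000f000f000f000f000f000f000f000f000f000f000f000f000f000f000f000f000f000f000f000f000f000f000f000f000f000f000f000f000f000f000f000f000f000f000f000f000f000f000f000f000f000f000f000f000f000f000f000f000f000f000f000f000f000f000f000f000f000f000f000f000f000f000f000f000f000f000f000f000f000f000f000f000f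

/-- Ten bits in every place. -/
def pkMask10 : ℕ := 0x3ff03ff03ff03ff03ff03ff03ff03ff03ff03ff03ff03ff03ff03ff03ff03ff03ff03ff03ff03ff03ff03ff03ff03ff03ff03ff03ff03ff03ff03ff03ff03ff03ff03ff03ff03ff03ff03ff03ff03ff03ff03ff03ff03ff03ff03ff03ff03ff03ff03ff03ff03ff03ff03ff03ff03ff03ff03ff03ff03ff03ff03ff03ff03ff03ff03ff03ff03ff03ff03ff03ff03ff03ff03ff03ff03ff03ff03ff03ff03ff03ff03ff03ff03ff03ff03ff03ff03ff03ff03ff03ff03ff03ff03ff03ff03ff03ff03ff03ff03ff03ff03ff03ff03ff03ff03ff03ff03ff03ff03ff03ff03ff03ff03ff03ff03ff03ff03ff03ff03ff03ff03ff03ff03ff03ff03ff03ff03ff03ff03ff03ff03ff03ff03ff03ff03ff03ff03ff03ff03ff03ff03ff03ff03ff03ff03ff03ff03ff03ff03ff03ff03ff03ff03ff03ff03ff03ff03ff03ff03ff03ff03ff03ff03ff03ff03ff03ff03ff03ff03ff03ff03ff03ff03ff03ff03ff03ff03ff03ff03ff03ff03ff03ff03ff03ff03ff03ff03ff03ff03ff03ff03ff03ff03ff03ff03ff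

theorem pkMask10_eq : pkMask10 = pk 16 196 fun _ => 2 ^ 10 - 1 := by decide +kernel

/-- The first column. -/
def colM : ℕ := 0xffff0000000000000000000000000000000000000000000000000000ffff0000000000000000000000000000000000000000000000000000ffff0000000000000000000000000000000000000000000000000000ffff0000000000000000000000000000000000000000000000000000ffff0000000000000000000000000000000000000000000000000000ffff0000000000000000000000000000000000000000000000000000ffff0000000000000000000000000000000000000000000000000000ffff0000000000000000000000000000000000000000000000000000ffff0000000000000000000000000000000000000000000000000000ffff0000000000000000000000000000000000000000000000000000ffff0000000000000000000000000000000000000000000000000000ffff0000000000000000000000000000000000000000000000000000ffff0000000000000000000000000000000000000000000000000000ffff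

theorem mask4_eq : mask4 = pk 16 196 fun _ => 2 ^ 4 - 1 := by decide +kernel

theorem colM_eq : colM = pk (16 * 14) 14 fun _ => 2 ^ 16 - 1 := by decide +kernel

/-- All entries below sixteen. -/
def okC (A : ℕ) : Bool := A &&& mask4 == A

/-- The product before reduction. -/
noncomputable def rawP (A B : ℕ) : ℕ :=
  Nat.rec 0 (fun j ih => Nat.add ih (Nat.mul (Nat.land (Nat.shiftRight A (Nat.mul 16 j)) colM)
    (Nat.mod (Nat.shiftRight B (Nat.mul 224 j)) (Nat.shiftLeft 1 224)))) 14

/-- A checked product: the raw product is the claimed one up to a multiple of five. -/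
noncomputable def prodOK (A B C : ℕ) : Bool :=
  okC A && okC B && okC C && Nat.beq (C + 5 * ((rawP A B - C) / 5)) (rawP A B) &&
    Nat.beq (Nat.land ((rawP A B - C) / 5) (pkMask10)) ((rawP A B - C) / 5)

theorem okC_spec {A : ℕ} (h : okC A = true) :
    A = pk 16 196 (fun m => ent A (m / 14) (m % 14)) ∧ ∀ i j, i < 14 → j < 14 → ent A i j < 16 := by
  rw [okC, beq_iff_eq, mask4_eq, land_mask (by norm_num : 4 ≤ 16)] at h
  have hd : ∀ m < 196, A / 2 ^ (16 * m) % 2 ^ 16 = A / 2 ^ (16 * m) % 2 ^ 4 := fun m hm => by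
    have hlt : ∀ i < 196, A / 2 ^ (16 * i) % 2 ^ 4 < 2 ^ 16 := fun i _ =>
      (Nat.mod_lt _ (by norm_num)).trans_le (by norm_num)
    have := pk_digit (s := 16) hlt hm
    rw [h] at this
    exact this
  refine ⟨?_, fun i j hi hj => ?_⟩
  · conv_lhs => rw [← h]
    refine pk_congr fun m hm => ?_
    rw [ent, Nat.div_add_mod, hd m hm]
  · rw [ent, hd _ (by omega)]
    exact Nat.mod_lt _ (by norm_num)

theorem cidx_lt : ∀ r : II, cidx r < 14
  | Sum.inl i => by have := i.isLt; simp only [cidx, chevG2] at *; omega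
  | Sum.inr u => by have := u.isLt; simp only [cidx, chevG2] at *; omega

theorem sum_cidx (g : ℕ → ZMod 5) : ∑ k : II, g (cidx k) = ∑ k ∈ Finset.range 14, g k := by
  rw [Fintype.sum_sum_type, show (14 : ℕ) = 2 + 12 from rfl, Finset.sum_range_add,
    Finset.sum_range, Finset.sum_range]
  rfl

theorem mul_of_prodOK {A B C : ℕ} (h : prodOK A B C = true) : mat A * mat B = mat C := by
  simp only [prodOK, Bool.and_eq_true] at h
  obtain ⟨⟨⟨⟨hA, hB⟩, hC⟩, hraw⟩, hQ⟩ := h
  have hraw' := Nat.eq_of_beq_eq_true hraw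
  have hQ' := Nat.eq_of_beq_eq_true hQ
  set Q := (rawP A B - C) / 5 with hQdef
  obtain ⟨-, bA⟩ := okC_spec hA
  obtain ⟨-, bB⟩ := okC_spec hB
  obtain ⟨eC, bC⟩ := okC_spec hC
  have hr : rawP A B = pk 16 196 fun m => ∑ j ∈ Finset.range 14, ent A (m / 14) j * ent B j (m % 14) := by
    have key : ∀ col, (Nat.rec 0 (fun j ih => Nat.add ih (Nat.mul (Nat.land (Nat.shiftRight A (Nat.mul 16 j)) col)
        (Nat.mod (Nat.shiftRight B (Nat.mul 224 j)) (Nat.shiftLeft 1 224)))) 14 : ℕ) =
        ∑ j ∈ Finset.range 14, (A >>> (16 * j) &&& col) * ((B >>> (224 * j)) % (1 <<< 224)) := fun col =>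
      natRec_sum (fun j => (A >>> (16 * j) &&& col) * ((B >>> (224 * j)) % (1 <<< 224))) 14
    rw [rawP, key, colM_eq]
    exact rawMul_flat 16 14 A B (by norm_num)
  rw [pkMask10_eq] at hQ'
  have eQ : Q = pk 16 196 fun m => Q / 2 ^ (16 * m) % 2 ^ 10 := by
    conv_lhs => rw [← hQ']
    exact land_mask (by norm_num : 10 ≤ 16) Q
  have hlin : C + 5 * Q = pk 16 196 fun m => ent C (m / 14) (m % 14) + 5 * (Q / 2 ^ (16 * m) % 2 ^ 10) := by
    conv_lhs => rw [eC, eQ]
    rw [pk_eq_sum, pk_eq_sum, pk_eq_sum, Finset.mul_sum, ← Finset.sum_add_distrib]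
    exact Finset.sum_congr rfl fun m _ => by ring
  refine Matrix.ext fun r c => ?_
  rw [Matrix.mul_apply]
  show ∑ k : II, (ent A (cidx r) (cidx k) : ZMod 5) * (ent B (cidx k) (cidx c) : ZMod 5) =
    (ent C (cidx r) (cidx c) : ZMod 5)
  rw [sum_cidx fun k => (ent A (cidx r) k : ZMod 5) * (ent B k (cidx c) : ZMod 5)]
  have hi := cidx_lt r
  have hj := cidx_lt c
  generalize cidx r = i at hi
  generalize cidx c = j at hj
  have hsum : ∀ m < 196, ∑ k ∈ Finset.range 14, ent A (m / 14) k * ent B k (m % 14) < 2 ^ 16 := by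
    intro m hm
    refine lt_of_le_of_lt (Finset.sum_le_card_nsmul (Finset.range 14) _ 256 fun k hk => ?_) (by simp)
    rw [Finset.mem_range] at hk
    exact (Nat.mul_le_mul (bA _ _ (by omega) hk).le (bB _ _ hk (Nat.mod_lt _ (by norm_num))).le).trans (by norm_num)
  have hlt : ∀ m < 196, ent C (m / 14) (m % 14) + 5 * (Q / 2 ^ (16 * m) % 2 ^ 10) < 2 ^ 16 := by
    intro m hm
    have h1 := bC (m / 14) (m % 14) (by omega) (Nat.mod_lt _ (by norm_num))
    have h2 : Q / 2 ^ (16 * m) % 2 ^ 10 < 1024 := Nat.mod_lt _ (by norm_num)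
    omega
  have hm : 14 * i + j < 196 := by omega
  have e1 := pk_digit (s := 16) hsum hm
  have e2 := pk_digit (s := 16) hlt hm
  rw [← hr, ← hraw', hlin, e2, show (14 * i + j) / 14 = i by omega, show (14 * i + j) % 14 = j by omega] at e1
  have e3 := congrArg (fun n : ℕ => (n : ZMod 5)) e1
  simp only [Nat.cast_sum, Nat.cast_mul, Nat.cast_add] at e3
  rw [← e3, show ((5 : ℕ) : ZMod 5) = 0 from rfl, zero_mul, add_zero]

variable {H : Subgroup (GL II (ZMod 5))}

/-- The code is the matrix of a member of the subgroup. -/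
def InH (H : Subgroup (GL II (ZMod 5))) (A : ℕ) : Prop :=
  ∃ g ∈ H, (g : Matrix II II (ZMod 5)) = mat A

theorem InH.mul {A B C : ℕ} (ha : InH H A) (hb : InH H B) (h : prodOK A B C = true) : InH H C := by
  obtain ⟨a, ha, ea⟩ := ha
  obtain ⟨b, hb, eb⟩ := hb
  exact ⟨a * b, mul_mem ha hb, by rw [Units.val_mul, ea, eb, mul_of_prodOK h]⟩

/-- The code of an entry of a program. -/
def pcode (p : List (ℕ × ℕ × ℕ)) (k : ℕ) : ℕ := (p.getD k (0, 0, 0)).1

/-- A checked straight-line program. -/
noncomputable def progOK (p : List (ℕ × ℕ × ℕ)) (B : ℕ) : Bool :=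
  (List.range p.length).all fun k => decide (k < B) ||
    (decide ((p.getD k (0, 0, 0)).2.1 < k) && decide ((p.getD k (0, 0, 0)).2.2 < k) &&
      prodOK (pcode p (p.getD k (0, 0, 0)).2.1) (pcode p (p.getD k (0, 0, 0)).2.2) (pcode p k))

theorem prog_mem {p : List (ℕ × ℕ × ℕ)} {B : ℕ} (hok : progOK p B = true)
    (hbase : ∀ k, k < B → InH H (pcode p k)) : ∀ k, k < p.length → InH H (pcode p k) := by
  simp only [progOK, List.all_eq_true, List.mem_range, Bool.or_eq_true, Bool.and_eq_true,
    decide_eq_true_eq] at hok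
  intro k
  induction k using Nat.strong_induction_on with
  | _ k ih =>
    intro hk
    rcases hok k hk with h | ⟨⟨hi, hj⟩, h⟩
    · exact hbase k h
    · exact InH.mul (ih _ hi (hi.trans hk)) (ih _ hj (hj.trans hk)) h

end CfsgLib.FusionExamples.LySub
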